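import Groth.Agent.EGA4H10.FormalDer
import Groth.Agent.CAlg1.FSFlat
import Groth.Agent.S2462
import Mathlib

/-! Extending derivations along formally smooth maps to complete local rings, and to base changes. -/

set_option autoImplicit false
set_option linter.style.haveILetI false
universe u

open IsLocalRing TensorProduct

namespace Groth.Agent.CAlg1.Andre

variable {R : Type u} [CommRing R]

/-- derivations into finite modules extend along formally smooth maps to complete local rings -/
theorem exists_derivation_ext {T : Type u} [CommRing T] [IsLocalRing T] [IsNoetherianRing T]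
    [IsAdicComplete (maximalIdeal T) T] [Algebra R T]
    (hT : CAlgX.IsAdicFormallySmooth R T (maximalIdeal T))
    (M : Type u) [AddCommGroup M] [Module T M] [Module.Finite T M]
    [Module R M] [IsScalarTower R T M] (d : Derivation ℤ R M) :
    ∃ d' : T →+ M, (∀ a b, d' (a * b) = a • d' b + b • d' a) ∧
      ∀ r : R, d' (algebraMap R T r) = d r := by
  letI : Module Tᵐᵒᵖ M := Module.compHom M ((RingHom.id T).fromOpposite mul_comm)
  have : IsCentralScalar T M := ⟨fun _ _ => rfl⟩
  obtain ⟨h, hh1, hh2⟩ := EGA4H10.exists_dualHom (T := T) d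
  let E := TrivSqZeroExt T M
  have : IsLocalRing E := by
    refine IsLocalRing.of_isUnit_or_isUnit_one_sub_self fun x => ?_
    rw [TrivSqZeroExt.isUnit_iff_isUnit_fst, TrivSqZeroExt.isUnit_iff_isUnit_fst, TrivSqZeroExt.fst_sub,
      TrivSqZeroExt.fst_one]
    exact IsLocalRing.isUnit_or_isUnit_one_sub_self _
  have : Module.Finite T E := inferInstanceAs (Module.Finite T (T × M))
  have : IsNoetherianRing E := isNoetherian_of_tower T inferInstance
  have : IsAdicComplete (maximalIdeal E) E := EGA4H10.isAdicComplete_maximalIdeal_of_finite T E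
  let J : Ideal E := RingHom.ker (EGA4H10.fstRing T M)
  let incl : T →+* E := TrivSqZeroExt.inlHom T M
  have hincl : ∀ t, (incl t).fst = t := fun t => TrivSqZeroExt.fst_inl M t
  letI : Algebra R E := h.toAlgebra
  let u : T →ₐ[R] E ⧸ J :=
    AlgHom.mk ((Ideal.Quotient.mk J).comp incl) fun r => by
      show Ideal.Quotient.mk J (incl (algebraMap R T r)) = Ideal.Quotient.mk J (h r)
      rw [Ideal.Quotient.eq, RingHom.mem_ker, map_sub, EGA4H10.fstRing_apply, EGA4H10.fstRing_apply, hh1, hincl, sub_self]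
  have hJ : J ≠ ⊤ := RingHom.ker_ne_top _
  have hu : (maximalIdeal T).map u.toRingHom ≤ (maximalIdeal E).map (Ideal.Quotient.mk J) := by
    refine Ideal.map_le_iff_le_comap.2 fun t ht => Ideal.mem_map_of_mem (Ideal.Quotient.mk J) ?_
    rw [mem_maximalIdeal, mem_nonunits_iff, TrivSqZeroExt.isUnit_iff_isUnit_fst]
    rw [hincl]; exact ht
  obtain ⟨v, -, hv⟩ := S2462.result (⊥ : Ideal R) (maximalIdeal T) (CAlg1.egaFS_of_adicFS _ _ hT)
    (by rw [Ideal.map_bot]; exact bot_le) J hJ u hu
  have hfst : ∀ t : T, (v t).fst = t := fun t => by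
    have h1 : Ideal.Quotient.mk J (v t) = Ideal.Quotient.mk J (incl t) := AlgHom.congr_fun hv t
    rw [Ideal.Quotient.eq, RingHom.mem_ker, map_sub, sub_eq_zero] at h1
    rwa [EGA4H10.fstRing_apply, EGA4H10.fstRing_apply, hincl] at h1
  obtain ⟨d', hl, hd'⟩ := EGA4H10.exists_der_of_dual v.toRingHom hfst
  refine ⟨d', hl, fun r => ?_⟩
  rw [hd']
  show (v (algebraMap R T r)).snd = _
  rw [v.commutes]
  exact hh2 r

variable {T : Type u} [CommRing T] [IsLocalRing T] [IsNoetherianRing T]
  [IsAdicComplete (maximalIdeal T) T] [Algebra R T]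

/-- derivations of an algebra whose values on `R` lie in a finite submodule extend to the base
change to a completion -/
theorem exists_derivation_tensor (hT : CAlgX.IsAdicFormallySmooth R T (maximalIdeal T))
    (L : Type u) [CommRing L] [Algebra R L] (δ : Derivation ℤ L L) (N : Submodule R L) [Module.Finite R N]
    (hN : ∀ r : R, δ (algebraMap R L r) ∈ N) :
    ∃ Δ : (L ⊗[R] T) →+ (L ⊗[R] T),
      (∀ a b, Δ (a * b) = a * Δ b + b * Δ a) ∧ ∀ l : L, Δ (l ⊗ₜ 1) = δ l ⊗ₜ 1 := by
  let X := L ⊗[R] T
  let M := T ⊗[R] N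
  let d : Derivation ℤ R M := Derivation.mk'
    (AddMonoidHom.toIntLinearMap
      { toFun := fun r => (1 : T) ⊗ₜ[R] (⟨δ (algebraMap R L r), hN r⟩ : N)
        map_zero' := by
          rw [show (⟨δ (algebraMap R L 0), hN 0⟩ : N) = 0 from Subtype.ext (by simp), TensorProduct.tmul_zero]
        map_add' := fun a b => by rw [← TensorProduct.tmul_add]; simp })
    (fun a b => by
      simp only [AddMonoidHom.coe_toIntLinearMap, AddMonoidHom.coe_mk, ZeroHom.coe_mk]
      rw [← TensorProduct.tmul_smul, ← TensorProduct.tmul_smul, ← TensorProduct.tmul_add]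
      congr 1
      ext
      simp [Algebra.smul_def])
  obtain ⟨d', hleib, hd'⟩ := exists_derivation_ext hT M d
  let ι : M →ₗ[R] X := (TensorProduct.comm R T L).toLinearMap ∘ₗ TensorProduct.map LinearMap.id N.subtype
  have hι : ∀ (t : T) (m : M), ι (t • m) = ((1 : L) ⊗ₜ t) * ι m := by
    intro t m
    induction m using TensorProduct.induction_on with
    | zero => simp
    | tmul t' n =>
      show (n : L) ⊗ₜ[R] (t * t') = ((1 : L) ⊗ₜ t) * ((n : L) ⊗ₜ t')
      rw [Algebra.TensorProduct.tmul_mul_tmul, one_mul]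
    | add a b ha hb => rw [smul_add, map_add, map_add, ha, hb, mul_add]
  let f : L →+ T →+ X :=
    { toFun := fun l =>
        { toFun := fun t => δ l ⊗ₜ t + (l ⊗ₜ 1) * ι (d' t)
          map_zero' := by simp
          map_add' := fun a b => by simp [TensorProduct.tmul_add, mul_add]; abel }
      map_zero' := by ext t; simp
      map_add' := fun a b => by ext t; simp [TensorProduct.add_tmul, add_mul]; abel }
  have hf : ∀ (r : R) (l : L) (t : T), f (r • l) t = f l (r • t) := by
    intro r l t
    show δ (r • l) ⊗ₜ t + ((r • l) ⊗ₜ 1) * ι (d' t) = δ l ⊗ₜ (r • t) + (l ⊗ₜ 1) * ι (d' (r • t))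
    rw [Algebra.smul_def r t, hleib, hd', map_add, hι, hι, ← Algebra.smul_def r t]
    have h1 : ι (d r) = δ (algebraMap R L r) ⊗ₜ[R] (1 : T) := rfl
    rw [h1, Algebra.smul_def r l, δ.leibniz, mul_add, ← mul_assoc, ← mul_assoc, Algebra.TensorProduct.tmul_mul_tmul,
      Algebra.TensorProduct.tmul_mul_tmul, Algebra.TensorProduct.tmul_mul_tmul, mul_one, one_mul, one_mul, smul_eq_mul,
      smul_eq_mul, TensorProduct.add_tmul, mul_one]
    rw [show l ⊗ₜ[R] (algebraMap R T r) = (algebraMap R L r * l) ⊗ₜ[R] (1 : T) by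
      rw [← Algebra.smul_def, TensorProduct.smul_tmul, Algebra.smul_def, mul_one],
      show δ l ⊗ₜ[R] (r • t) = (algebraMap R L r * δ l) ⊗ₜ[R] t by
      rw [← TensorProduct.smul_tmul, Algebra.smul_def]]
    abel
  let Δ0 : X →+ X := TensorProduct.liftAddHom f hf
  have hΔ0 : ∀ l t, Δ0 (l ⊗ₜ t) = δ l ⊗ₜ t + (l ⊗ₜ 1) * ι (d' t) := fun l t => rfl
  refine ⟨Δ0, fun a b => ?_, fun l => ?_⟩
  · induction a using TensorProduct.induction_on with
    | zero => simp
    | add a a' ha ha' => simp only [add_mul, map_add, mul_add, ha, ha']; abel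
    | tmul l t =>
      induction b using TensorProduct.induction_on with
      | zero => simp
      | add b b' hb hb' => simp only [mul_add, map_add, add_mul, hb, hb']; abel
      | tmul l' t' =>
        rw [Algebra.TensorProduct.tmul_mul_tmul, hΔ0, hΔ0, hΔ0, δ.leibniz, hleib, map_add, hι, hι,
          smul_eq_mul, smul_eq_mul, TensorProduct.add_tmul, mul_add, mul_add, mul_add,
          ← mul_assoc, ← mul_assoc, ← mul_assoc, ← mul_assoc]
        simp only [Algebra.TensorProduct.tmul_mul_tmul, one_mul, mul_one]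
        rw [mul_comm t t', mul_comm l' l]
        abel
  · show Δ0 (l ⊗ₜ 1) = _
    have h1 : d' 1 = 0 := by
      have h := hleib 1 1
      rw [mul_one, one_smul] at h
      exact left_eq_add.1 h
    rw [hΔ0, h1, map_zero, mul_zero, add_zero]

end Groth.Agent.CAlg1.Andre
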