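import Groth.Agent.CAlg1.Andre.Strict
import Groth.Agent.CAlg4.RegHomLoc
import Groth.Agent.EGA4Alg4.RegCompletion
import Mathlib

/-! Completions of G-rings along ideals are regular. -/

set_option autoImplicit false
set_option linter.style.haveILetI false
set_option maxHeartbeats 800000
universe u

open IsLocalRing

namespace Groth.Agent.CAlg1.Andre

theorem regular_of_unramified_local {R S : Type u} [CommRing R] [IsLocalRing R] [IsNoetherianRing R]
    [CommRing S] [IsLocalRing S] [IsNoetherianRing S] [Algebra R S] [IsLocalHom (algebraMap R S)]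
    [Module.Flat R S] (hR : CAlg.IsRegularHom R (AdicCompletion (maximalIdeal R) R))
    (hm : (maximalIdeal R).map (algebraMap R S) = maximalIdeal S)
    (hres : Function.Surjective (algebraMap (ResidueField R) (ResidueField S))) : CAlg.IsRegularHom R S := by
  have : Algebra.IsSeparable (ResidueField R) (ResidueField S) := ⟨fun x => by
    obtain ⟨y, rfl⟩ := hres x
    exact isSeparable_algebraMap y⟩
  exact (regular_of_adicFS hR (adicFS_of_separable_fibre hm)).1

theorem isRegularHom_adicCompletion (A : Type u) [CommRing A] (hA : CAlg.IsGRing A) (I : Ideal A) :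
    CAlg.IsRegularHom A (AdicCompletion I A) := by
  haveI := hA.1
  let B := AdicCompletion I A
  have hI : I.FG := IsNoetherian.noetherian _
  have : IsNoetherianRing B := CAlg1.isNoetherianRing_adicCompletion _ hI
  have : Module.Flat A B := AdicCompletion.flat_of_isNoetherian I
  refine CAlg4.RegHomLoc.isRegularHom_of_maximal fun P hP => ?_
  have hc := AdicCompletion.isAdicComplete_self I hI
  have hJP : I.map (algebraMap A B) ≤ P :=
    (IsAdicComplete.le_jacobson_bot _).trans (sInf_le ⟨bot_le, hP⟩)
  set p := Ideal.comap (algebraMap A B) P with hp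
  letI := (Localization.localRingHom p P (algebraMap A B) rfl).toAlgebra
  have hlift : ∀ b : B, ∃ a : A, b - algebraMap A B a ∈ P := fun b => by
    obtain ⟨a, ha⟩ := CAlg5.exists_sub_mem_pow (R := A) (I := I) hI 1 b
    rw [pow_one] at ha
    exact ⟨a, hJP ha⟩
  have hpmax : p.IsMaximal := by
    refine Ideal.isMaximal_iff.2 ⟨(Ideal.ne_top_iff_one _).1 (Ideal.IsPrime.ne_top inferInstance),
      fun J x hpJ hx hxJ => ?_⟩
    obtain ⟨y, hy⟩ := Ideal.Quotient.maximal_ideal_iff_isField_quotient P |>.1 hP |>.mul_inv_cancel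
      (a := Ideal.Quotient.mk P (algebraMap A B x)) (fun h => hx (Ideal.mem_comap.2 (Ideal.Quotient.eq_zero_iff_mem.1 h)))
    obtain ⟨b, rfl⟩ := Ideal.Quotient.mk_surjective y
    obtain ⟨a, ha⟩ := hlift b
    have h1 : x * a - 1 ∈ p := by
      rw [hp, Ideal.mem_comap, map_sub, map_one, map_mul, ← Ideal.Quotient.eq, map_mul, map_one,
        ← Ideal.Quotient.eq.2 ha]
      exact hy
    have h2 : x * a - (x * a - 1) ∈ J := sub_mem (J.mul_mem_right a hxJ) (hpJ h1)
    rwa [sub_sub_cancel] at h2
  have hIp : I ≤ p := fun x hx => hJP (Ideal.mem_map_of_mem _ hx)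
  have hmap : p.map (algebraMap A B) = P :=
    (AdicCompletion.isMaximal_map_of_le I p hIp hI).eq_of_le hP.ne_top Ideal.map_comap_le
  let Ap := Localization.AtPrime p
  let BP := Localization.AtPrime P
  have : IsNoetherianRing Ap := IsLocalization.isNoetherianRing p.primeCompl _ inferInstance
  have : IsNoetherianRing BP := IsLocalization.isNoetherianRing P.primeCompl _ inferInstance
  have : IsScalarTower A Ap BP := .of_algebraMap_eq fun a => by
    rw [RingHom.algebraMap_toAlgebra, Localization.localRingHom_to_map, IsScalarTower.algebraMap_apply A B BP]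
  have hlh : IsLocalHom (algebraMap Ap BP) := Localization.isLocalHom_localRingHom p P (algebraMap A B) rfl
  have : Module.Flat A BP := Module.Flat.trans A B BP
  have : Module.Flat Ap BP := (Module.flat_iff_of_isLocalization Ap p.primeCompl BP).2 inferInstance
  have hm : (maximalIdeal Ap).map (algebraMap Ap BP) = maximalIdeal BP := by
    rw [← Localization.AtPrime.map_eq_maximalIdeal, Ideal.map_map, ← IsScalarTower.algebraMap_eq,
      IsScalarTower.algebraMap_eq A B BP, ← Ideal.map_map, hmap, Localization.AtPrime.map_eq_maximalIdeal]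
  refine regular_of_unramified_local (hA.2 p) hm fun z => ?_
  obtain ⟨z, rfl⟩ := residue_surjective z
  obtain ⟨b, s, rfl⟩ := IsLocalization.exists_mk'_eq P.primeCompl z
  obtain ⟨a, ha⟩ := hlift b
  obtain ⟨c, hc⟩ := hlift s
  have hcp : c ∉ p := fun h => s.2 (by simpa using add_mem hc (Ideal.mem_comap.1 h))
  refine ⟨residue Ap (IsLocalization.mk' Ap a (⟨c, hcp⟩ : p.primeCompl)), ?_⟩
  show residue BP (algebraMap Ap BP _) = _
  rw [← sub_eq_zero, ← map_sub, residue_eq_zero_iff, show algebraMap Ap BP (IsLocalization.mk' Ap a (⟨c, hcp⟩ : p.primeCompl)) =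
    IsLocalization.mk' BP (algebraMap A B a) ⟨algebraMap A B c, hcp⟩ from Localization.localRingHom_mk' _ _ _ _ _ _]
  rw [← IsLocalization.mk'_sub, IsLocalization.AtPrime.mk'_mem_maximal_iff BP P]
  have : algebraMap A B a * (s : B) - b * algebraMap A B c =
      algebraMap A B a * ((s : B) - algebraMap A B c) - (b - algebraMap A B a) * algebraMap A B c := by ring
  rw [this]
  exact sub_mem (Ideal.mul_mem_left _ _ hc) (Ideal.mul_mem_right _ _ ha)

end Groth.Agent.CAlg1.Andre
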