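import Groth.Agent.EGA4H10.GenFormal
import Groth.Agent.CAlg1.Andre.Der
import Mathlib

/-! Generic fibres of formally smooth complete algebras over a regular domain with enough derivations. -/

set_option autoImplicit false
set_option linter.style.haveILetI false
universe u

open IsLocalRing TensorProduct Polynomial

namespace Groth.Agent.CAlg1.Andre

open EGA4H10 (exists_derivation_frac isRegularRing_localization isRegularRing_of_etale isRegularRing_of_root exists_generators)

variable {R : Type u} [CommRing R] [IsDomain R] [IsRegularRing R] {T : Type u} [CommRing T] [IsLocalRing T]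
  [IsNoetherianRing T] [IsAdicComplete (maximalIdeal T) T] [IsRegularRing T] [Algebra R T]

variable (L : Type u) [Field L] [Algebra R L]

/-- the separable case -/
theorem isRegularRing_tensor_separable [FaithfulSMul R L] [Algebra (FractionRing R) L]
    [IsScalarTower R (FractionRing R) L] [Module.Finite (FractionRing R) L] [Algebra.IsSeparable (FractionRing R) L] :
    IsRegularRing (L ⊗[R] T) := by
  let K := FractionRing R
  have hTK : IsRegularRing (T ⊗[R] K) :=
    isRegularRing_localization (Algebra.algebraMapSubmonoid T (nonZeroDivisors R)) _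
  have : Algebra.FormallyEtale K L := Algebra.FormallyEtale.of_isSeparable K L
  have : Algebra.FinitePresentation K L := Algebra.FinitePresentation.of_finiteType.mp inferInstance
  have : Algebra.Etale K L := {}
  let X0 := K ⊗[R] T
  have : IsRegularRing X0 := IsRegularRing.of_ringEquiv (Algebra.TensorProduct.comm R T K).toRingEquiv
  have : IsRegularRing (X0 ⊗[K] L) := isRegularRing_of_etale (X := X0)
  let e1 := (Algebra.TensorProduct.comm K L X0).toRingEquiv
  let e2 := (Algebra.TensorProduct.cancelBaseChange R K L L T).toRingEquiv
  exact IsRegularRing.of_ringEquiv (R := X0 ⊗[K] L) (e1.symm.trans e2)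

variable {L}

/-- one purely inseparable step -/
theorem isRegularRing_tensor_step (hT : CAlgX.IsAdicFormallySmooth R T (maximalIdeal T)) {E : Type u} [Field E] [Algebra R E] [Algebra E L] [IsScalarTower R E L]
    (q : ℕ) [Fact q.Prime] (δ : Derivation ℤ E E) (N : Submodule R E) [Module.Finite R N]
    (hN : ∀ r : R, δ (algebraMap R E r) ∈ N) (y : L) (a : E) (hy : y ^ q = algebraMap E L a) (ha : δ a ≠ 0)
    [CharP E q] (hgen : IntermediateField.adjoin E {y} = ⊤) (hnot : ∀ b : E, b ^ q ≠ a)
    [IsRegularRing (E ⊗[R] T)] :
    IsRegularRing (L ⊗[R] T) := by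
  classical
  let X := E ⊗[R] T
  let Y := L ⊗[R] T
  have hq : 0 < q := (Fact.out : q.Prime).pos
  let φ : X →+* Y := (Algebra.TensorProduct.map (IsScalarTower.toAlgHom R E L) (AlgHom.id R T)).toRingHom
  have hφ : ∀ (e : E) (t : T), φ (e ⊗ₜ t) = algebraMap E L e ⊗ₜ t := fun e t => rfl
  have hirr : Irreducible (Polynomial.X ^ q - Polynomial.C a) := X_pow_sub_C_irreducible_of_prime Fact.out hnot
  have hint : IsIntegral E y := ⟨Polynomial.X ^ q - Polynomial.C a, monic_X_pow_sub_C _ hq.ne', by simp [hy]⟩
  have hmin : minpoly E y = Polynomial.X ^ q - Polynomial.C a :=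
    (minpoly.eq_of_irreducible_of_monic hirr (by simp [hy]) (monic_X_pow_sub_C _ hq.ne')).symm
  let pb : PowerBasis E L :=
    (IntermediateField.adjoin.powerBasis hint).map ((IntermediateField.equivOfEq hgen).trans IntermediateField.topEquiv)
  have hdim : pb.dim = q := by
    simp [pb, hmin, natDegree_X_pow_sub_C]
  have hpgen : pb.gen = y := by simp [pb]
  have hbasis : ∀ i : Fin pb.dim, pb.basis i = y ^ (i : ℕ) := fun i => by rw [pb.basis_eq_pow, hpgen]
  obtain ⟨D0, hleib, hD0⟩ := exists_derivation_tensor hT E δ N hN
  refine isRegularRing_of_root φ (y ⊗ₜ[R] (1 : T)) (a ⊗ₜ[R] (1 : T)) hq ?_ D0 hleib ?_ ?_ ?_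
  · rw [Algebra.TensorProduct.tmul_pow, one_pow, hy, hφ]
  · rw [hD0]
    exact IsUnit.map (Algebra.TensorProduct.includeLeft : E →ₐ[R] X) ha.isUnit
  · intro z
    induction z using TensorProduct.induction_on with
    | zero => exact ⟨0, map_zero _⟩
    | add z z' hz hz' =>
      obtain ⟨g, rfl⟩ := hz; obtain ⟨g', rfl⟩ := hz'
      exact ⟨g + g', map_add _ g g'⟩
    | tmul l t =>
      refine ⟨∑ i : Fin pb.dim, Polynomial.C (pb.basis.repr l i ⊗ₜ[R] t) * Polynomial.X ^ (i : ℕ), ?_⟩
      rw [map_sum]
      conv_rhs => rw [← pb.basis.sum_repr l, TensorProduct.sum_tmul]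
      refine Finset.sum_congr rfl fun i _ => ?_
      rw [coe_eval₂RingHom, eval₂_mul, eval₂_C, eval₂_X_pow, hφ, Algebra.TensorProduct.tmul_pow, one_pow,
        Algebra.TensorProduct.tmul_mul_tmul, mul_one, hbasis, Algebra.smul_def]
  · intro i hi
    let i' : Fin pb.dim := ⟨i, by omega⟩
    refine ⟨(TensorProduct.map ((pb.basis.coord i').restrictScalars R) (LinearMap.id : T →ₗ[R] T)).toAddMonoidHom,
      fun x j hj => ?_⟩
    let j' : Fin pb.dim := ⟨j, by omega⟩
    show TensorProduct.map ((pb.basis.coord i').restrictScalars R) LinearMap.id (φ x * (y ⊗ₜ[R] (1 : T)) ^ j) = _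
    induction x using TensorProduct.induction_on with
    | zero => simp
    | add x x' hx hx' => rw [map_add, add_mul, map_add, hx, hx']; split_ifs <;> simp
    | tmul e t =>
      rw [hφ, Algebra.TensorProduct.tmul_pow, one_pow, Algebra.TensorProduct.tmul_mul_tmul, mul_one,
        show y ^ j = pb.basis j' from (hbasis j').symm, ← Algebra.smul_def, TensorProduct.map_tmul,
        LinearMap.restrictScalars_apply, Module.Basis.coord_apply, map_smul, Module.Basis.repr_self,
        Finsupp.smul_apply, Finsupp.single_apply]
      simp only [j', i', Fin.mk.injEq]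
      split_ifs <;> simp

/-- generic formal fibres are geometrically regular -/
theorem isRegularRing_tensor_generic (hT : CAlgX.IsAdicFormallySmooth R T (maximalIdeal T)) (q : ℕ) [Fact q.Prime] [CharP R q]
    (hder : ∀ (C : Type u) [CommRing C] [IsDomain C] [Algebra R C] [Module.Finite R C] [FaithfulSMul R C]
      (a : C), (∀ y : FractionRing C, y ^ q ≠ algebraMap C (FractionRing C) a) → ∃ D : Derivation ℤ C C, D a ≠ 0) :
    ∀ (d : ℕ) (L : Type u) [Field L] [Algebra R L] [FaithfulSMul R L] [Algebra (FractionRing R) L]
      [IsScalarTower R (FractionRing R) L] [Module.Finite (FractionRing R) L],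
      Module.finrank (FractionRing R) L ≤ d → IsRegularRing (L ⊗[R] T) := by
  intro d
  induction d with
  | zero => intro L _ _ _ _ _ _ hd; exact absurd hd (not_le.2 Module.finrank_pos)
  | succ d ih =>
    intro L _ _ _ _ _ _ hd
    classical
    let K := FractionRing R
    have : CharP L q := charP_of_injective_algebraMap (FaithfulSMul.algebraMap_injective R L) q
    have : CharP K q := charP_of_injective_algebraMap (IsFractionRing.injective R K) q
    have : ExpChar K q := .prime Fact.out
    by_cases hsep : separableClosure K L = ⊤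
    · have : Algebra.IsSeparable K L := ⟨fun x => mem_separableClosure_iff.1 (hsep ▸ IntermediateField.mem_top)⟩
      exact isRegularRing_tensor_separable L
    · -- a maximal proper intermediate field containing the separable closure
      have hex : ∃ n, ∃ M : IntermediateField K L, separableClosure K L ≤ M ∧ M ≠ ⊤ ∧
          Module.finrank K L - Module.finrank K M = n := ⟨_, _, le_rfl, hsep, rfl⟩
      obtain ⟨M, hM, hMtop, hMn⟩ := Nat.find_spec hex
      have hmax : ∀ M' : IntermediateField K L, M < M' → M' = ⊤ := by
        intro M' h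
        by_contra hne
        have h1 := Nat.find_min' hex ⟨M', hM.trans h.le, hne, rfl⟩
        have h2 : Module.finrank K M < Module.finrank K M' :=
          Submodule.finrank_lt_finrank_of_lt (SetLike.lt_iff_le_and_exists.2
            ⟨fun x hx => h.le hx, SetLike.exists_of_lt h⟩ : M.toSubmodule < M'.toSubmodule)
        have h3 : Module.finrank K M' ≤ Module.finrank K L := Submodule.finrank_le M'.toSubmodule
        omega
      obtain ⟨x, -, hx⟩ := SetLike.exists_of_lt (lt_top_iff_ne_top.2 hMtop)
      have hpow : ∃ m, x ^ q ^ m ∈ M := by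
        obtain ⟨m, z, hz⟩ := IsPurelyInseparable.pow_mem (F := separableClosure K L) q x
        exact ⟨m, hM (hz ▸ z.2)⟩
      have hm0 : Nat.find hpow ≠ 0 := fun h => hx (by simpa [h] using Nat.find_spec hpow)
      let y := x ^ q ^ (Nat.find hpow - 1)
      have hyM : y ∉ M := Nat.find_min hpow (by omega)
      have hyq : y ^ q ∈ M := by
        rw [show y ^ q = x ^ q ^ Nat.find hpow by rw [← pow_mul, ← pow_succ, Nat.sub_add_cancel (Nat.one_le_iff_ne_zero.2 hm0)]]
        exact Nat.find_spec hpow
      let a : M := ⟨y ^ q, hyq⟩
      have hnot : ∀ b : M, b ^ q ≠ a := fun b hb => hyM (by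
        have h : (b : L) ^ q = y ^ q := congrArg Subtype.val hb
        rw [← frobenius_inj L q h]
        exact b.2)
      have hgen : IntermediateField.adjoin M {y} = ⊤ := by
        have hlt : M < (IntermediateField.adjoin M {y}).restrictScalars K :=
          SetLike.lt_iff_le_and_exists.2 ⟨fun z hz => (IntermediateField.adjoin M {y}).algebraMap_mem ⟨z, hz⟩,
            y, IntermediateField.mem_adjoin_simple_self M y, hyM⟩
        exact IntermediateField.restrictScalars_eq_top_iff.1 (hmax _ hlt)
      have : FaithfulSMul R M := (faithfulSMul_iff_algebraMap_injective R M).2 fun r r' h =>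
        FaithfulSMul.algebraMap_injective R L (congrArg Subtype.val h)
      have hMd : Module.finrank K M ≤ d := by
        have : Module.finrank K M < Module.finrank K L :=
          Submodule.finrank_lt (s := M.toSubmodule) fun h => hMtop (IntermediateField.toSubalgebra_injective
            (Subalgebra.toSubmodule.injective (h.trans Algebra.top_toSubmodule.symm)))
        have hd' : Module.finrank K L ≤ d + 1 := hd
        omega
      have : IsScalarTower R M L := IsScalarTower.of_algebraMap_eq fun r => rfl
      have := ih M hMd
      have : CharP M q := charP_of_injective_algebraMap (algebraMap K M).injective q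
      obtain ⟨C, c, s, hs, hC, hCfrac, hcs⟩ := exists_generators (R := R) M a
      have : FaithfulSMul R C := (faithfulSMul_iff_algebraMap_injective R C).2 fun r r' h =>
        FaithfulSMul.algebraMap_injective R M (congrArg Subtype.val h)
      let c' : C := algebraMap R C (s ^ (q - 1)) * c
      have hc' : (c' : M) = algebraMap R M s ^ q * a := by
        show algebraMap R M (s ^ (q - 1)) * (c : M) = _
        rw [hcs, map_pow, ← mul_assoc, ← pow_succ, Nat.sub_add_cancel (Fact.out : q.Prime).one_le]
      have hsM : algebraMap R M s ≠ 0 := (map_ne_zero_iff _ (FaithfulSMul.algebraMap_injective R M)).2 hs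
      obtain ⟨D, hD⟩ := hder C c' fun w hw => hnot
        ((IsLocalization.algEquiv (nonZeroDivisors C) (FractionRing C) M w) / algebraMap R M s) (by
          rw [div_pow, ← map_pow, hw, AlgEquiv.commutes, div_eq_iff (pow_ne_zero _ hsM), mul_comm]
          exact hc')
      obtain ⟨δ, hδ⟩ := exists_derivation_frac (L := M) D
      have : Module.Finite R (Subalgebra.toSubmodule C) := hC
      refine isRegularRing_tensor_step hT q δ (Subalgebra.toSubmodule C) (fun r => ?_) y a rfl ?_ hgen hnot
      · rw [IsScalarTower.algebraMap_apply R C M, hδ]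
        exact (D (algebraMap R C r)).2
      · intro h0
        refine hD (Subtype.val_injective ?_)
        have h1 : δ (algebraMap C M c') = algebraMap C M (D c') := hδ c'
        rw [show algebraMap C M c' = algebraMap R M s ^ q * a from hc', Derivation.leibniz, h0, Derivation.leibniz_pow,
          ← Nat.cast_smul_eq_nsmul M q, CharP.cast_eq_zero M q, smul_zero, zero_smul, smul_zero, add_zero] at h1
        exact h1.symm


end Groth.Agent.CAlg1.Andre
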