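import Groth.Agent.EGA4H10.CompleteJ2
import Mathlib

/-! Noether normalisation of complete local domains without residue field extension. -/

set_option autoImplicit false
set_option linter.style.haveILetI false
universe u

open IsLocalRing

namespace Groth.Agent.CAlg1.Andre

open EGA4H10 (SepFamily exists_psSepFamily)

/-- Noether normalisation: complete local domains are finite over complete regular local domains. -/
theorem exists_finite_regular_residue (A : Type u) [CommRing A] [IsDomain A] [IsLocalRing A] [IsNoetherianRing A]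
    [IsAdicComplete (maximalIdeal A) A] :
    ∃ (R : Type u) (_ : CommRing R) (_ : IsDomain R) (_ : IsRegularLocalRing R) (_ : Algebra R A),
      Module.Finite R A ∧ IsAdicComplete (maximalIdeal R) R ∧ Function.Injective (algebraMap R A) ∧
      Function.Surjective ((residue A).comp (algebraMap R A)) ∧
      ∀ p : ℕ, p.Prime → CharP A p → Nonempty (SepFamily p R) := by
  classical
  obtain ⟨q, hq⟩ := CharP.exists (ResidueField A)
  by_cases hq0 : (q : A) = 0
  · -- equal characteristic
    obtain ⟨k, _, ρ, hρ⟩ : ∃ (k : Type u) (_ : Field k) (ρ : k →+* A), Function.Bijective ((residue A).comp ρ) := by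
      obtain ⟨σ, hσ⟩ := Cohen12.exists_coefficientField A q hq0
      exact ⟨ResidueField A, inferInstance, σ, RingHom.injective _, fun z => ⟨z, hσ z⟩⟩
    letI : Algebra k A := ρ.toAlgebra
    have : Module.Finite k (ResidueField A) := Module.Finite.of_surjective (Algebra.linearMap k (ResidueField A)) hρ.2
    obtain ⟨n, w, -, hw, -, hwfin⟩ := Cohen12.exists_finite_powerSeries (k₀ := k) (A := A)
    have : IsRegularLocalRing (MvPowerSeries (Fin n) k) := CAlg6.isRegularLocalRing_mvPowerSeries
    letI : Algebra (MvPowerSeries (Fin n) k) A := w.toRingHom.toAlgebra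
    refine ⟨MvPowerSeries (Fin n) k, inferInstance, NoZeroDivisors.to_isDomain _, inferInstance,
      inferInstance, hwfin, ?_, hw, fun z => ?_, fun p hp hA => ?_⟩
    · have : IsAdicComplete (maximalIdeal k) k := by rw [maximalIdeal_eq_bot]; infer_instance
      exact Cohen12.isAdicComplete_powerSeries n
    · obtain ⟨c, rfl⟩ := hρ.2 z
      refine ⟨MvPowerSeries.C c, ?_⟩
      show residue A (w (algebraMap k (MvPowerSeries (Fin n) k) c)) = residue A (algebraMap k A c)
      rw [w.commutes]
    have : Fact p.Prime := ⟨hp⟩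
    have : CharP k p := (RingHom.charP_iff ρ ρ.injective p).2 hA
    exact exists_psSepFamily p k n
  · -- mixed characteristic
    obtain ⟨W, _, _, hW, w, hwl, hsurj⟩ := Cohen12.exists_cohen_hom A
    obtain ⟨hN, hc, hd, hz, q', hq', hm⟩ := Cohen12.cohen_struct hW
    have hqA : (q : A) ∈ maximalIdeal A := by
      rw [← residue_eq_zero_iff, map_natCast]
      exact CharP.cast_eq_zero _ q
    have hWres : CharP (ResidueField A) q' := (RingHom.charP_iff_charP (ResidueField.map w) q').1 hq'
    obtain rfl : q' = q := CharP.eq (ResidueField A) hWres hq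
    have : IsPrincipalIdealRing W :=
      ((tfae_of_isNoetherianRing_of_isLocalRing_of_isDomain W).out 4 0).mp (⟨⟨(q' : W), hm⟩⟩ : (maximalIdeal W).IsPrincipal)
    have hqW : (q' : W) ≠ 0 := fun h => hq0 (by rw [← map_natCast w, h, map_zero])
    let I : Ideal A := Ideal.span {(q' : A)}
    have hI : I ≠ ⊥ := by simpa [I, Ideal.span_singleton_eq_bot] using hq0
    have hIle : I ≤ maximalIdeal A := (Ideal.span_singleton_le_iff_mem _).2 hqA
    have : Nontrivial (A ⧸ I) := Ideal.Quotient.nontrivial_iff.2 fun h =>
      (maximalIdeal.isMaximal A).ne_top (top_le_iff.1 (h ▸ hIle))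
    have : IsLocalRing (A ⧸ I) := .of_surjective' _ Ideal.Quotient.mk_surjective
    obtain ⟨s, hs, hcard⟩ := (maximalIdeal (A ⧸ I)).exists_finset_card_eq_height_of_isNoetherianRing
    have hdimI : ringKrullDim (A ⧸ I) = (s.card : WithBot ℕ∞) := by
      rw [← IsLocalRing.maximalIdeal_height_eq_ringKrullDim, ← hcard]; rfl
    have hsucc : ((s.card + 1 : ℕ) : WithBot ℕ∞) ≤ ringKrullDim A := by
      push_cast
      rw [← hdimI]
      exact CAlg1.ringKrullDim_quotient_succ_le_of_domain hI
    let σ : A ⧸ I → A := Function.surjInv Ideal.Quotient.mk_surjective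
    have hσ : ∀ z, Ideal.Quotient.mk I (σ z) = z := Function.surjInv_eq _
    let y : Fin s.card → A := fun i => σ (s.equivFin.symm i)
    have hy : ∀ i, y i ∈ maximalIdeal A := fun i hu =>
      (hs.1.2 (Ideal.subset_span (s.equivFin.symm i).2)) (hσ (s.equivFin.symm i : A ⧸ I) ▸ hu.map (Ideal.Quotient.mk I))
    obtain ⟨φ, hC, hX⟩ := LA18.exists_powerSeries_hom (maximalIdeal A) w y hy
    let R := MvPowerSeries (Fin s.card) W
    obtain ⟨hRreg, hRdim⟩ := Cohen12.regular_powerSeries (W := W) s.card (q' : W) hm
    rw [if_neg hqW] at hRdim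
    letI : Algebra R A := φ.toAlgebra
    have : IsAdicComplete (maximalIdeal R) R := Cohen12.isAdicComplete_powerSeries s.card
    let J := (maximalIdeal R).map (algebraMap R A)
    have hJle : J ≤ maximalIdeal A := by
      refine Ideal.map_le_iff_le_comap.2 ?_
      rw [Cohen12.maximalIdeal_powerSeries, hm, Ideal.map_span, Set.image_singleton, ← Ideal.span_union,
        Ideal.span_le]
      rintro f (rfl | ⟨i, rfl⟩)
      · rw [SetLike.mem_coe, Ideal.mem_comap]
        show φ _ ∈ _
        rw [hC, map_natCast]; exact hqA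
      · rw [SetLike.mem_coe, Ideal.mem_comap]
        show φ _ ∈ _
        rw [hX]; exact hy i
    have hIJ : I ≤ J := (Ideal.span_singleton_le_iff_mem _).2 (by
      have h1 : φ (MvPowerSeries.C (q' : W)) ∈ J :=
        Ideal.mem_map_of_mem φ ((Cohen12.mem_maximalIdeal_powerSeries _).2 (by
          rw [MvPowerSeries.constantCoeff_C, hm]; exact Ideal.mem_span_singleton_self _))
      rwa [hC, map_natCast] at h1)
    have hrad : maximalIdeal A ≤ J.radical := by
      rw [Ideal.radical_eq_sInf]
      refine le_sInf fun P ⟨hP, hPp⟩ => ?_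
      have hPI : I ≤ P := hIJ.trans hP
      have hPb : (P.map (Ideal.Quotient.mk I)).IsPrime := Ideal.isPrime_map_quotientMk_of_isPrime hPI
      have hsP : Ideal.span (s : Set (A ⧸ I)) ≤ P.map (Ideal.Quotient.mk I) := by
        refine Ideal.span_le.2 fun z hz => ?_
        have : y (s.equivFin ⟨z, hz⟩) ∈ P := hP (hX (s.equivFin ⟨z, hz⟩) ▸
          Ideal.mem_map_of_mem φ ((Cohen12.mem_maximalIdeal_powerSeries _).2 (by simp)))
        have h2 := Ideal.mem_map_of_mem (Ideal.Quotient.mk I) this
        simp only [y, hσ, Equiv.symm_apply_apply] at h2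
        exact h2
      intro z hz
      have hzI : Ideal.Quotient.mk I z ∈ maximalIdeal (A ⧸ I) := fun hu => hz (by
        have : IsLocalHom (Ideal.Quotient.mk I) := .of_surjective _ Ideal.Quotient.mk_surjective
        exact isUnit_of_map_unit (Ideal.Quotient.mk I) z hu)
      have := hs.2 ⟨hPb, hsP⟩ (le_maximalIdeal hPb.ne_top) hzI
      rwa [← Ideal.mem_comap, Ideal.comap_map_quotientMk, sup_eq_right.2 hPI] at this
    have hres : ∀ b : A, ∃ x ∈ Submodule.span R (({1} : Finset A) : Set A), b - x ∈ maximalIdeal A := by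
      intro b
      obtain ⟨c, hc'⟩ := hsurj (residue A b)
      refine ⟨(MvPowerSeries.C c : R) • (1 : A), Submodule.smul_mem _ _ (Submodule.subset_span (by simp)), ?_⟩
      rw [← residue_eq_zero_iff, map_sub, Algebra.smul_def, mul_one, RingHom.algebraMap_toAlgebra, hC]
      exact sub_eq_zero.2 hc'.symm
    have hfin : Module.Finite R A := Cohen12.finite_of_residue R (maximalIdeal R) hJle {1} hres
      (Ideal.exists_pow_le_of_le_radical_of_fg hrad (IsNoetherian.noetherian _))
    refine ⟨R, inferInstance, NoZeroDivisors.to_isDomain _, hRreg, inferInstance, hfin, inferInstance, ?_, fun z => ?_, fun p hp hA => ?_⟩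
    · have h2 : φ.range.subtype.Finite := RingHom.Finite.of_comp_finite (f := φ.rangeRestrict) hfin
      have : Module.Finite φ.range A := h2
      have : Algebra.IsIntegral φ.range A := Algebra.IsIntegral.of_finite _ _
      have hrange : ringKrullDim φ.range = ((s.card + 1 : ℕ) : WithBot ℕ∞) :=
        le_antisymm ((ringKrullDim_le_of_surjective φ.rangeRestrict φ.rangeRestrict_surjective).trans hRdim.le)
          (hsucc.trans (EGA4Alg4.ringKrullDim_le_of_integral φ.range A))
      have : IsDomain R := NoZeroDivisors.to_isDomain _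
      have hinj := CAlg6.injective_of_surjective_of_ringKrullDim_eq φ.rangeRestrict φ.rangeRestrict_surjective
        (s.card + 1) hRdim hrange
      exact fun a b hab => hinj (Subtype.ext hab)
    · obtain ⟨c, rfl⟩ := hsurj z
      refine ⟨MvPowerSeries.C c, ?_⟩
      show residue A (φ (MvPowerSeries.C c)) = _
      rw [hC]
      rfl
    · exfalso
      refine hq0 ?_
      have h1 : (p : ResidueField A) = 0 := by rw [← map_natCast (residue A), CharP.cast_eq_zero A p, map_zero]
      obtain ⟨c, hc'⟩ : q' ∣ p := (CharP.cast_eq_zero_iff (ResidueField A) q' p).1 h1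
      rcases hp.eq_one_or_self_of_dvd q' ⟨c, hc'⟩ with h | h
      · exact absurd h (CharP.char_ne_one (ResidueField A) q')
      · rw [h]; exact CharP.cast_eq_zero A p

end Groth.Agent.CAlg1.Andre
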