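import Groth.Agent.CAlg1.Andre.Gen
import Groth.Agent.CAlg1.Andre.NormResidue
import Groth.Agent.CAlg1.CohenHom
import Groth.Agent.CAlg1.FSLift
import Groth.Agent.CAlg5.RegularHom
import Groth.Agent.EGA4H10.CompleteGRing
import Mathlib

/-! Localization of formal smoothness over complete Noetherian local rings. -/

set_option autoImplicit false
set_option linter.style.haveILetI false
set_option maxHeartbeats 1000000
universe u

open IsLocalRing TensorProduct

namespace Groth.Agent.CAlg1.Andre

/-- adic formal smoothness passes to quotients of the base -/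
theorem adicFS_quotient {A B : Type u} [CommRing A] [CommRing B] [Algebra A B] {n : Ideal B}
    (h : CAlgX.IsAdicFormallySmooth A B n) (I : Ideal A) :
    CAlgX.IsAdicFormallySmooth (A ⧸ I) (B ⧸ I.map (algebraMap A B))
      (n.map (Ideal.Quotient.mk (I.map (algebraMap A B)))) := by
  intro C _ _ J hJ ψ hψ
  letI : Algebra A C := ((algebraMap (A ⧸ I) C).comp (Ideal.Quotient.mk I)).toAlgebra
  have : IsScalarTower A (A ⧸ I) C := .of_algebraMap_eq fun _ => rfl
  obtain ⟨k, hk⟩ := hψ
  let K := I.map (algebraMap A B)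
  let ψ' : B →ₐ[A] C ⧸ J := AlgHom.mk (ψ.toRingHom.comp (Ideal.Quotient.mk K)) fun a => by
    show ψ (algebraMap (A ⧸ I) (B ⧸ K) (Ideal.Quotient.mk I a)) = _
    rw [ψ.commutes]
    rfl
  obtain ⟨χ, hχ⟩ := h C J hJ ψ' ⟨k, fun x hx => hk _ (by
    rw [← Ideal.map_pow]; exact Ideal.mem_map_of_mem _ hx)⟩
  have hker : ∀ x ∈ K, χ x = 0 := by
    intro x hx
    have : K ≤ RingHom.ker χ.toRingHom := Ideal.map_le_iff_le_comap.2 fun a ha => by
      show χ (algebraMap A B a) = 0
      rw [χ.commutes]
      show algebraMap (A ⧸ I) C (Ideal.Quotient.mk I a) = 0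
      rw [Ideal.Quotient.eq_zero_iff_mem.2 ha, map_zero]
    exact this hx
  refine ⟨AlgHom.mk (Ideal.Quotient.lift K χ.toRingHom hker) fun a => ?_, ?_⟩
  · obtain ⟨a, rfl⟩ := Ideal.Quotient.mk_surjective a
    exact χ.commutes a
  · refine AlgHom.ext fun x => ?_
    obtain ⟨x, rfl⟩ := Ideal.Quotient.mk_surjective x
    exact AlgHom.congr_fun hχ x

theorem isRegularLocalRing_of_isRegularRing (C : Type u) [CommRing C] [IsLocalRing C] [IsRegularRing C] :
    IsRegularLocalRing C := by
  have := IsRegularRing.isRegularLocalRing_localization (maximalIdeal C)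
  exact IsRegularLocalRing.of_ringEquiv
    (IsLocalization.atUnits C (maximalIdeal C).primeCompl (S := Localization.AtPrime (maximalIdeal C))
      fun x hx => of_not_not fun hu => hx ((mem_maximalIdeal x).mpr hu)).toRingEquiv.symm

section ClosedFibre

variable (R C : Type u) [CommRing R] [IsLocalRing R] [CommRing C] [Algebra R C]

theorem includeRight_fiber_surjective :
    Function.Surjective (Algebra.TensorProduct.includeRight : C →ₐ[R] (maximalIdeal R).Fiber C) := by
  intro z
  induction z using TensorProduct.induction_on with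
  | zero => exact ⟨0, map_zero _⟩
  | add a b ha hb =>
    obtain ⟨c, rfl⟩ := ha; obtain ⟨d, rfl⟩ := hb
    exact ⟨c + d, map_add _ _ _⟩
  | tmul x c =>
    obtain ⟨y, rfl⟩ := (Ideal.bijective_algebraMap_quotient_residueField (maximalIdeal R)).2 x
    obtain ⟨r, rfl⟩ := Ideal.Quotient.mk_surjective y
    refine ⟨r • c, ?_⟩
    rw [Algebra.TensorProduct.includeRight_apply, TensorProduct.tmul_smul, TensorProduct.smul_tmul',
      ← Ideal.Quotient.algebraMap_eq, ← IsScalarTower.algebraMap_apply, Algebra.algebraMap_eq_smul_one]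

theorem exists_fiber_equiv_quotient :
    ∃ e : (maximalIdeal R).Fiber C ≃+* C ⧸ (maximalIdeal R).map (algebraMap R C),
      ∀ c, e ((1 : (maximalIdeal R).ResidueField) ⊗ₜ c) = Ideal.Quotient.mk _ c := by
  let m := maximalIdeal R
  let M := m.map (algebraMap R C)
  let e0 := RingEquiv.ofBijective _ (Ideal.bijective_algebraMap_quotient_residueField m)
  let f : m.ResidueField →ₐ[R] C ⧸ M :=
    AlgHom.mk ((Ideal.quotientMap M (algebraMap R C) Ideal.le_comap_map).comp e0.symm.toRingHom) fun r => by
      show Ideal.quotientMap M (algebraMap R C) Ideal.le_comap_map (e0.symm (algebraMap R m.ResidueField r)) = _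
      rw [show algebraMap R m.ResidueField r = e0 (Ideal.Quotient.mk m r) from rfl, e0.symm_apply_apply,
        Ideal.quotientMap_mk]
      rfl
  let g : m.Fiber C →ₐ[R] C ⧸ M :=
    Algebra.TensorProduct.lift f (Ideal.Quotient.mkₐ R M) fun _ _ => Commute.all _ _
  have hg : ∀ c, g ((1 : m.ResidueField) ⊗ₜ c) = Ideal.Quotient.mk M c := fun c => by
    simp only [g, Algebra.TensorProduct.lift_tmul, map_one, one_mul, Ideal.Quotient.mkₐ_eq_mk]
  refine ⟨RingEquiv.ofBijective g.toRingHom ⟨?_, ?_⟩, hg⟩
  · rw [injective_iff_map_eq_zero]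
    intro z hz
    obtain ⟨c, rfl⟩ := includeRight_fiber_surjective R C z
    change g ((1 : m.ResidueField) ⊗ₜ c) = 0 at hz
    rw [hg, Ideal.Quotient.eq_zero_iff_mem] at hz
    have : M ≤ RingHom.ker (Algebra.TensorProduct.includeRight : C →ₐ[R] m.Fiber C).toRingHom :=
      Ideal.map_le_iff_le_comap.2 fun r hr => by
        show Algebra.TensorProduct.includeRight (algebraMap R C r) = 0
        rw [AlgHom.commutes, IsScalarTower.algebraMap_apply R m.ResidueField, Ideal.algebraMap_residueField_eq_zero.2 hr,
          map_zero]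
    exact this hz
  · intro x
    obtain ⟨c, rfl⟩ := Ideal.Quotient.mk_surjective x
    exact ⟨_, hg c⟩

end ClosedFibre

theorem isRegularRing_of_adicFS_regular {R C : Type u} [CommRing R] [IsRegularLocalRing R] [CommRing C]
    [IsLocalRing C] [IsNoetherianRing C] [Algebra R C] [IsLocalHom (algebraMap R C)]
    (h : CAlgX.IsAdicFormallySmooth R C (maximalIdeal C)) : IsRegularRing C := by
  obtain ⟨hfl, hgeo⟩ := CAlg1.flat_geometricallyRegular_iff_adicFS.mpr h
  obtain ⟨e, -⟩ := exists_fiber_equiv_quotient R C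
  have := CAlg5.isRegularRing_of_isGeometricallyRegular hgeo
  let F := C ⧸ (maximalIdeal R).map (algebraMap R C)
  have : Nontrivial F := Ideal.Quotient.nontrivial_iff.mpr fun ht =>
    (maximalIdeal.isMaximal C).ne_top (top_le_iff.mp (ht ▸ map_maximalIdeal_le _))
  have : IsLocalRing F := IsLocalRing.of_surjective' (Ideal.Quotient.mk _) Ideal.Quotient.mk_surjective
  have : IsRegularRing F := IsRegularRing.of_ringEquiv e
  have := CAlg5.regular_of_flat_local R C (isRegularLocalRing_of_isRegularRing F)
  exact CAlg1.isRegularRing_of_isRegularLocalRing C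

/-- A formally smooth algebra over a finite extension `A` of `R` without residue extension comes from `R`. -/
theorem exists_descend {R A B : Type u} [CommRing R] [IsLocalRing R] [IsNoetherianRing R]
    [IsAdicComplete (maximalIdeal R) R] [CommRing A] [IsLocalRing A] [IsNoetherianRing A] [Algebra R A]
    [Module.Finite R A] [IsLocalHom (algebraMap R A)]
    (hres : Function.Surjective ((residue A).comp (algebraMap R A)))
    [CommRing B] [IsLocalRing B] [IsNoetherianRing B] [IsAdicComplete (maximalIdeal B) B]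
    [Algebra A B] [IsLocalHom (algebraMap A B)]
    (h : CAlgX.IsAdicFormallySmooth A B (maximalIdeal B)) :
    ∃ (C : Type u) (_ : CommRing C) (_ : IsLocalRing C) (_ : Algebra R C),
      IsNoetherianRing C ∧ IsAdicComplete (maximalIdeal C) C ∧ IsLocalHom (algebraMap R C) ∧
        CAlgX.IsAdicFormallySmooth R C (maximalIdeal C) ∧ Nonempty (A ⊗[R] C ≃ₐ[A] B) := by
  classical
  let mR := maximalIdeal R
  let mA := maximalIdeal A
  have : Module.Flat A B := CAlg1.flat_of_adicFS h
  letI : Algebra R B := ((algebraMap A B).comp (algebraMap R A)).toAlgebra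
  have : IsScalarTower R A B := .of_algebraMap_eq fun _ => rfl
  let J := mA.map (algebraMap A B)
  have hJ : J ≤ maximalIdeal B := map_maximalIdeal_le _
  let Bb := B ⧸ J
  have : Nontrivial Bb := Ideal.Quotient.nontrivial_iff.mpr fun ht =>
    (maximalIdeal.isMaximal B).ne_top (top_le_iff.mp (ht ▸ hJ))
  have : IsLocalRing Bb := IsLocalRing.of_surjective' (Ideal.Quotient.mk _) Ideal.Quotient.mk_surjective
  have hmBb : (maximalIdeal B).map (Ideal.Quotient.mk J) = maximalIdeal Bb := by
    have : IsLocalHom (Ideal.Quotient.mk J) := IsLocalHom.of_surjective _ Ideal.Quotient.mk_surjective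
    refine le_antisymm (map_maximalIdeal_le _) fun x hx => ?_
    obtain ⟨b, rfl⟩ := Ideal.Quotient.mk_surjective x
    exact Ideal.mem_map_of_mem _ ((mem_maximalIdeal _).mpr fun hu => (mem_maximalIdeal _).mp hx (hu.map _))
  have : IsAdicComplete (maximalIdeal Bb) Bb := Cohen12.isAdicComplete_quotient J
  -- the residue fields agree
  have hle : mR ≤ mA.comap (algebraMap R A) := Ideal.map_le_iff_le_comap.1 (map_maximalIdeal_le _)
  let q : (R ⧸ mR) →+* A ⧸ mA := Ideal.quotientMap mA (algebraMap R A) hle
  have hq : Function.Bijective q := by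
    let := Ideal.Quotient.field mR
    refine ⟨q.injective, fun z => ?_⟩
    obtain ⟨r, hr⟩ := hres z
    exact ⟨Ideal.Quotient.mk mR r, hr⟩
  let e0 : (R ⧸ mR) ≃+* mR.ResidueField :=
    RingEquiv.ofBijective _ (Ideal.bijective_algebraMap_quotient_residueField mR)
  let eκ : A ⧸ mA ≃+* mR.ResidueField := (RingEquiv.ofBijective q hq).symm.trans e0
  have heκ : ∀ r, eκ.symm (algebraMap R mR.ResidueField r) = Ideal.Quotient.mk mA (algebraMap R A r) := by
    intro r
    rw [RingEquiv.symm_apply_eq]
    show _ = e0 ((RingEquiv.ofBijective q hq).symm (q (Ideal.Quotient.mk mR r)))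
    have h1 : (RingEquiv.ofBijective q hq).symm (q (Ideal.Quotient.mk mR r)) = Ideal.Quotient.mk mR r := by
      apply (RingEquiv.ofBijective q hq).injective
      rw [RingEquiv.apply_symm_apply]
      rfl
    rw [h1]
    rfl
  letI : Algebra mR.ResidueField Bb := ((algebraMap (A ⧸ mA) Bb).comp eκ.symm.toRingHom).toAlgebra
  have hBb : CAlgX.IsAdicFormallySmooth mR.ResidueField Bb (maximalIdeal Bb) := by
    refine CAlg1.adicFS_of_equiv eκ (RingEquiv.refl Bb) (fun z => ?_) (Ideal.map_id _) (hmBb ▸ adicFS_quotient h mA)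
    show algebraMap (A ⧸ mA) Bb z = algebraMap (A ⧸ mA) Bb (eκ.symm (eκ z))
    rw [eκ.symm_apply_apply]
  obtain ⟨C, _, _, _, hCn, hCc, hCl, hC, ⟨θ⟩⟩ := CAlg1.exists_adicFS_lift hBb
  refine ⟨C, inferInstance, inferInstance, inferInstance, hCn, hCc, hCl, hC, ?_⟩
  let u : C →ₐ[R] Bb := AlgHom.mk
    (θ.toAlgHom.toRingHom.comp (Algebra.TensorProduct.includeRight : C →ₐ[R] mR.Fiber C).toRingHom) fun r => by
      show θ (Algebra.TensorProduct.includeRight (algebraMap R C r)) = _
      rw [AlgHom.commutes, IsScalarTower.algebraMap_apply R mR.ResidueField, θ.commutes]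
      show algebraMap (A ⧸ mA) Bb (eκ.symm (algebraMap R _ r)) = _
      rw [heκ]
      rfl
  have hus : Function.Surjective u := θ.surjective.comp (includeRight_fiber_surjective R C)
  have huker : ∀ c, u c = 0 → c ∈ mR.map (algebraMap R C) := by
    intro c hc
    obtain ⟨e, he⟩ := exists_fiber_equiv_quotient R C
    have h1 : (1 : mR.ResidueField) ⊗ₜ[R] c = 0 := θ.injective (by rw [map_zero]; exact hc)
    rw [← Ideal.Quotient.eq_zero_iff_mem, ← he, h1, map_zero]
  have hu : (maximalIdeal C).map u.toRingHom ≤ (maximalIdeal B).map (Ideal.Quotient.mk J) := by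
    rw [hmBb]
    have : IsLocalHom u.toRingHom := IsLocalHom.of_surjective _ hus
    exact map_maximalIdeal_le _
  obtain ⟨v, -, hv⟩ := S2462.result (⊥ : Ideal R) (maximalIdeal C) (CAlg1.egaFS_of_adicFS _ _ hC)
    (by rw [Ideal.map_bot]; exact bot_le) J (fun ht => (maximalIdeal.isMaximal B).ne_top (top_le_iff.mp (ht ▸ hJ))) u hu
  have hvc : ∀ c, Ideal.Quotient.mk J (v c) = u c := fun c => AlgHom.congr_fun hv c
  let Z := A ⊗[R] C
  let Ψ : Z →ₐ[A] B := Algebra.TensorProduct.lift (Algebra.ofId A B) v fun _ _ => Commute.all _ _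
  have hΨ1 : ∀ c, Ψ ((1 : A) ⊗ₜ c) = v c := fun c => by
    exact (Algebra.TensorProduct.lift_tmul _ _ _ _ _).trans (by rw [map_one, one_mul])
  let JZ := mA.map (algebraMap A Z)
  have hJZ : JZ.map Ψ.toRingHom = J := by
    rw [Ideal.map_map]
    congr 1
    exact RingHom.ext Ψ.commutes
  have hkey : ∀ z : Z, ∃ c, z - (1 : A) ⊗ₜ c ∈ JZ := by
    intro z
    induction z using TensorProduct.induction_on with
    | zero => exact ⟨0, by simp⟩
    | add a b ha hb =>
      obtain ⟨c, hc⟩ := ha; obtain ⟨d, hd⟩ := hb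
      refine ⟨c + d, ?_⟩
      rw [TensorProduct.tmul_add, add_sub_add_comm]
      exact add_mem hc hd
    | tmul a c =>
      obtain ⟨r, hr⟩ := hres (residue A a)
      refine ⟨r • c, ?_⟩
      have hm : a - algebraMap R A r ∈ mA := by
        rw [← residue_eq_zero_iff, map_sub, sub_eq_zero]
        exact hr.symm
      have : a ⊗ₜ[R] c - (1 : A) ⊗ₜ (r • c) = algebraMap A Z (a - algebraMap R A r) * ((1 : A) ⊗ₜ c) := by
        rw [← TensorProduct.smul_tmul, ← Algebra.algebraMap_eq_smul_one, ← TensorProduct.sub_tmul,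
          Algebra.TensorProduct.algebraMap_apply, Algebra.algebraMap_self_apply, Algebra.TensorProduct.tmul_mul_tmul,
          mul_one, one_mul]
      rw [this]
      exact Ideal.mul_mem_right _ _ (Ideal.mem_map_of_mem _ hm)
  -- `Z` is complete
  letI : Algebra C Z := (Algebra.TensorProduct.includeRight : C →ₐ[R] Z).toRingHom.toAlgebra
  have : Module.Finite C Z := by
    let e : C ⊗[R] A ≃ₐ[C] Z := AlgEquiv.ofRingEquiv (f := (Algebra.TensorProduct.comm R C A).toRingEquiv) fun c => rfl
    exact Module.Finite.equiv e.toLinearEquiv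
  have : IsNoetherianRing Z := isNoetherian_of_tower C inferInstance
  have hZ : IsAdicComplete JZ Z := by
    have h1 : IsAdicComplete ((maximalIdeal C).map (algebraMap C Z)) Z := SGA3a.isAdicComplete_map_of_finite Z
    have hrad : mA ≤ (mR.map (algebraMap R A)).radical := by
      rw [Ideal.radical_eq_sInf]
      refine le_sInf fun P ⟨hP, hPp⟩ => ?_
      have hle' : mR ≤ P.comap (algebraMap R A) := Ideal.map_le_iff_le_comap.1 hP
      have : (P.comap (algebraMap R A)).IsMaximal :=
        ((maximalIdeal.isMaximal R).eq_of_le (Ideal.IsPrime.comap _).ne_top hle') ▸ maximalIdeal.isMaximal R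
      exact (IsLocalRing.eq_maximalIdeal (Ideal.isMaximal_of_isIntegral_of_isMaximal_comap (R := R) P this)).ge
    obtain ⟨N, hN⟩ := Ideal.exists_pow_le_of_le_radical_of_fg hrad (IsNoetherian.noetherian _)
    have hRZ : (mR.map (algebraMap R A)).map (algebraMap A Z) ≤ (maximalIdeal C).map (algebraMap C Z) := by
      rw [Ideal.map_map, ← IsScalarTower.algebraMap_eq,
        show algebraMap R Z = (algebraMap C Z).comp (algebraMap R C) from RingHom.ext fun r =>
          ((Algebra.TensorProduct.includeRight : C →ₐ[R] Z).commutes r).symm,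
        ← Ideal.map_map]
      exact Ideal.map_mono (map_maximalIdeal_le _)
    have : IsAdicComplete (JZ ^ (N + 1)) Z := by
      refine CAlg1.isAdicComplete_of_le (J := (maximalIdeal C).map (algebraMap C Z)) ?_ (IsNoetherian.noetherian _)
      rw [← Ideal.map_pow]
      exact (Ideal.map_mono ((Ideal.pow_le_pow_right N.le_succ).trans hN)).trans hRZ
    exact Frg27.isAdicComplete_of_pow (N := N)
  have hsurj : Function.Surjective Ψ.toRingHom := by
    have : IsHausdorff (JZ.map Ψ.toRingHom) B := by
      rw [hJZ]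
      exact IsHausdorff.of_le_jacobson _ _ (hJ.trans (IsLocalRing.jacobson_eq_maximalIdeal ⊥ bot_ne_top).ge)
    refine surjective_of_mk_map_comp_surjective (I := JZ) Ψ.toRingHom fun x => ?_
    obtain ⟨b, rfl⟩ := Ideal.Quotient.mk_surjective x
    obtain ⟨c, hc⟩ := hus (Ideal.Quotient.mk J b)
    refine ⟨(1 : A) ⊗ₜ c, ?_⟩
    rw [RingHom.comp_apply, Ideal.Quotient.eq, hJZ, ← Ideal.Quotient.eq]
    show Ideal.Quotient.mk J (Ψ ((1 : A) ⊗ₜ c)) = _
    rw [hΨ1, hvc, hc]
  have hinj : Function.Injective Ψ.toRingHom := by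
    rw [RingHom.injective_iff_ker_eq_bot]
    refine Submodule.eq_bot_of_le_smul_of_le_jacobson_bot JZ _ (IsNoetherian.noetherian _) ?_
      (IsAdicComplete.le_jacobson_bot JZ)
    intro k hk
    have hkJ : k ∈ JZ := by
      obtain ⟨c, hc⟩ := hkey k
      have hvJ : v c ∈ J := by
        have h1 : Ψ (k - (1 : A) ⊗ₜ c) ∈ J := hJZ.le (Ideal.mem_map_of_mem Ψ.toRingHom hc)
        rw [map_sub, hΨ1, show Ψ k = 0 from hk, zero_sub, neg_mem_iff] at h1
        exact h1
      have hc' : c ∈ mR.map (algebraMap R C) := huker c (by rw [← hvc, Ideal.Quotient.eq_zero_iff_mem]; exact hvJ)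
      have h2 : mR.map (algebraMap R C) ≤ JZ.comap (Algebra.TensorProduct.includeRight : C →ₐ[R] Z).toRingHom :=
        Ideal.map_le_iff_le_comap.2 fun r hr => by
          show Algebra.TensorProduct.includeRight (algebraMap R C r) ∈ JZ
          rw [AlgHom.commutes, IsScalarTower.algebraMap_apply R A Z]
          exact Ideal.mem_map_of_mem _ (hle hr)
      simpa using add_mem hc (h2 hc' : (1 : A) ⊗ₜ[R] c ∈ JZ)
    have h3 := FlatNil62.mem_smul_of_flat_range Ψ.toLinearMap hsurj mA (k := k) hk
      (by rw [Ideal.smul_top_eq_map]; exact hkJ)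
    refine Submodule.smul_induction_on h3 (fun a ha w hw => ?_) (fun _ _ => add_mem)
    rw [Algebra.smul_def a w]
    exact (Submodule.smul_mem_smul (Ideal.mem_map_of_mem _ ha) hw :
      algebraMap A Z a • w ∈ JZ • RingHom.ker Ψ.toRingHom)
  exact ⟨AlgEquiv.ofBijective Ψ ⟨hinj, hsurj⟩⟩

/-- the generic fibre of a formally smooth algebra over a complete local domain -/
theorem isRegularRing_tensor_of_domain {A B : Type u} [CommRing A] [IsDomain A] [IsLocalRing A]
    [IsNoetherianRing A] [IsAdicComplete (maximalIdeal A) A]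
    [CommRing B] [IsLocalRing B] [IsNoetherianRing B] [IsAdicComplete (maximalIdeal B) B]
    [Algebra A B] [IsLocalHom (algebraMap A B)]
    (h : CAlgX.IsAdicFormallySmooth A B (maximalIdeal B))
    (k' : Type u) [Field k'] [Algebra A k'] [Algebra (FractionRing A) k']
    [IsScalarTower A (FractionRing A) k'] [Module.Finite (FractionRing A) k'] :
    IsRegularRing (k' ⊗[A] B) := by
  obtain ⟨R, _, _, _, _, _, hRc, hinj, hres, hfam⟩ := exists_finite_regular_residue A
  have : IsNoetherianRing R := inferInstance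
  have : IsLocalHom (algebraMap R A) := RingHom.IsIntegral.isLocalHom (Algebra.IsIntegral.isIntegral (R := R)) hinj
  obtain ⟨C, _, _, _, _, _, _, hC, ⟨e⟩⟩ := exists_descend hres h
  have : IsRegularRing C := isRegularRing_of_adicFS_regular hC
  have : IsRegularRing R := CAlg1.isRegularRing_of_isRegularLocalRing R
  have : FaithfulSMul R A := (faithfulSMul_iff_algebraMap_injective R A).2 hinj
  let K := FractionRing R
  let L0 := FractionRing A
  have hinjL0 : Function.Injective (algebraMap R L0) := by
    rw [IsScalarTower.algebraMap_eq R A L0]; exact (IsFractionRing.injective A L0).comp hinj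
  have : FaithfulSMul R L0 := (faithfulSMul_iff_algebraMap_injective R L0).2 hinjL0
  letI : Algebra K L0 := FractionRing.liftAlgebra R L0
  have : IsScalarTower R K L0 := FractionRing.isScalarTower_liftAlgebra R L0
  have : Module.Finite K L0 := OmegaHat14.finite_fractionRing R A
  letI : Algebra R k' := ((algebraMap A k').comp (algebraMap R A)).toAlgebra
  have : IsScalarTower R A k' := IsScalarTower.of_algebraMap_eq fun _ => rfl
  have hinjk : Function.Injective (algebraMap R k') := by
    rw [IsScalarTower.algebraMap_eq R A k', IsScalarTower.algebraMap_eq A L0 k']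
    exact ((algebraMap L0 k').injective.comp (IsFractionRing.injective A L0)).comp hinj
  have : FaithfulSMul R k' := (faithfulSMul_iff_algebraMap_injective R k').2 hinjk
  letI : Algebra K k' := ((algebraMap L0 k').comp (algebraMap K L0)).toAlgebra
  have : IsScalarTower K L0 k' := IsScalarTower.of_algebraMap_eq fun _ => rfl
  have : IsScalarTower R K k' := IsScalarTower.of_algebraMap_eq fun r => by
    show _ = algebraMap L0 k' (algebraMap K L0 (algebraMap R K r))
    rw [← IsScalarTower.algebraMap_apply R K L0, IsScalarTower.algebraMap_apply R A L0,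
      ← IsScalarTower.algebraMap_apply A L0 k']
    rfl
  have : Module.Finite K k' := Module.Finite.trans L0 k'
  have : IsRegularRing (k' ⊗[R] C) := by
    obtain ⟨c, hc⟩ := CharP.exists R
    rcases CharP.char_is_prime_or_zero R c with hcp | rfl
    · have : Fact c.Prime := ⟨hcp⟩
      obtain ⟨F⟩ := hfam c hcp ((RingHom.charP_iff _ hinj c).1 hc)
      exact isRegularRing_tensor_generic hC c (fun D _ _ _ _ _ a ha => F.exists_derivation D a ha) _ k' le_rfl
    · have : CharZero R := CharP.charP_to_charZero R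
      have : CharZero K := charZero_of_injective_algebraMap (IsFractionRing.injective R K)
      exact isRegularRing_tensor_separable k'
  exact IsRegularRing.of_ringEquiv (R := k' ⊗[R] C)
    ((Algebra.TensorProduct.cancelBaseChange R A k' k' C).symm.toRingEquiv.trans
      (Algebra.TensorProduct.congr (AlgEquiv.refl (R := k') (A₁ := k')) e).toRingEquiv)

end Groth.Agent.CAlg1.Andre
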