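import Groth.Agent.CAlg1.Andre.Main
import Groth.Agent.CAlg5.AdicFS
import Mathlib

/-! Formally smooth maps out of complete local rings and rings with regular formal fibres are regular. -/

set_option autoImplicit false
set_option linter.style.haveILetI false
set_option maxHeartbeats 800000
universe u

open IsLocalRing TensorProduct

namespace Groth.Agent.CAlg1.Andre

/-- complete to complete -/
theorem regular_of_adicFS_complete {A B : Type u} [CommRing A] [IsLocalRing A] [IsNoetherianRing A]
    [IsAdicComplete (maximalIdeal A) A] [CommRing B] [IsLocalRing B] [IsNoetherianRing B]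
    [IsAdicComplete (maximalIdeal B) B] [Algebra A B] [IsLocalHom (algebraMap A B)]
    (h : CAlgX.IsAdicFormallySmooth A B (maximalIdeal B)) : CAlg.IsRegularHom A B := by
  refine ⟨CAlg1.flat_of_adicFS h, fun q _ => ⟨CAlg1.isNoetherianRing_fiber (S := B) q, fun k' _ _ hk => ?_⟩⟩
  let κ := q.ResidueField
  let A' := A ⧸ q
  let Q := q.map (algebraMap A B)
  let B' := B ⧸ Q
  have hQ : Q ≤ maximalIdeal B :=
    (Ideal.map_mono (le_maximalIdeal (Ideal.IsPrime.ne_top ‹_›))).trans (map_maximalIdeal_le _)
  have : Nontrivial B' := Ideal.Quotient.nontrivial_iff.mpr fun ht =>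
    (maximalIdeal.isMaximal B).ne_top (top_le_iff.mp (ht ▸ hQ))
  have : IsLocalRing B' := IsLocalRing.of_surjective' (Ideal.Quotient.mk _) Ideal.Quotient.mk_surjective
  have : IsLocalHom (Ideal.Quotient.mk Q) := IsLocalHom.of_surjective _ Ideal.Quotient.mk_surjective
  have : IsAdicComplete (maximalIdeal A') A' := Cohen12.isAdicComplete_quotient q
  have : IsAdicComplete (maximalIdeal B') B' := Cohen12.isAdicComplete_quotient Q
  have : IsLocalHom (algebraMap A' B') := by
    refine ⟨fun x hx => ?_⟩
    obtain ⟨a, rfl⟩ := Ideal.Quotient.mk_surjective x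
    have : IsUnit (algebraMap A B a) := isUnit_of_map_unit (Ideal.Quotient.mk Q) _ hx
    exact (isUnit_of_map_unit (algebraMap A B) a this).map _
  have hm : (maximalIdeal B).map (Ideal.Quotient.mk Q) = maximalIdeal B' := by
    refine le_antisymm (map_maximalIdeal_le _) fun x hx => ?_
    obtain ⟨b, rfl⟩ := Ideal.Quotient.mk_surjective x
    exact Ideal.mem_map_of_mem _ ((mem_maximalIdeal _).mpr fun hu => (mem_maximalIdeal _).mp hx (hu.map _))
  have h' : CAlgX.IsAdicFormallySmooth A' B' (maximalIdeal B') := hm ▸ adicFS_quotient h q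
  letI : Algebra A k' := ((algebraMap κ k').comp (algebraMap A κ)).toAlgebra
  have : IsScalarTower A κ k' := .of_algebraMap_eq fun _ => rfl
  letI : Algebra A' k' := ((algebraMap κ k').comp (algebraMap A' κ)).toAlgebra
  have : IsScalarTower A' κ k' := .of_algebraMap_eq fun _ => rfl
  have : IsScalarTower A A' k' := .of_algebraMap_eq fun a => by
    show algebraMap κ k' (algebraMap A κ a) = algebraMap κ k' (algebraMap A' κ (algebraMap A A' a))
    rw [← IsScalarTower.algebraMap_apply A A' κ]
  let ι : FractionRing A' ≃ₐ[A'] κ := FractionRing.algEquiv A' κ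
  letI : Algebra (FractionRing A') κ := ι.toRingEquiv.toRingHom.toAlgebra
  letI : Algebra (FractionRing A') k' := ((algebraMap κ k').comp ι.toRingEquiv.toRingHom).toAlgebra
  have : IsScalarTower (FractionRing A') κ k' := .of_algebraMap_eq fun _ => rfl
  have : IsScalarTower A' (FractionRing A') k' := .of_algebraMap_eq fun x => by
    show algebraMap κ k' (algebraMap A' κ x) = algebraMap κ k' (ι (algebraMap A' _ x))
    rw [ι.commutes]
  have : Module.Finite (FractionRing A') κ :=
    Module.Finite.of_surjective (Algebra.linearMap (FractionRing A') κ) ι.surjective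
  have : Module.Finite κ k' := hk
  have : Module.Finite (FractionRing A') k' := Module.Finite.trans κ k'
  have : IsRegularRing (k' ⊗[A'] B') := isRegularRing_tensor_of_domain h' k'
  exact IsRegularRing.of_ringEquiv (R := k' ⊗[A'] B')
    ((Algebra.TensorProduct.congr (AlgEquiv.refl (R := k') (A₁ := k'))
        (Algebra.TensorProduct.quotIdealMapEquivQuotTensor B q)).toRingEquiv.trans
      ((Algebra.TensorProduct.cancelBaseChange A A' k' k' B).toRingEquiv.trans
        (Algebra.TensorProduct.cancelBaseChange A κ k' k' B).toRingEquiv.symm))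

/-- base with regular formal fibres -/
theorem regular_of_adicFS {A B : Type u} [CommRing A] [IsLocalRing A] [IsNoetherianRing A]
    [CommRing B] [IsLocalRing B] [IsNoetherianRing B] [Algebra A B] [IsLocalHom (algebraMap A B)]
    (hA : CAlg.IsRegularHom A (AdicCompletion (maximalIdeal A) A))
    (h : CAlgX.IsAdicFormallySmooth A B (maximalIdeal B)) :
    CAlg.IsRegularHom A B ∧ CAlg.IsRegularHom A (AdicCompletion (maximalIdeal B) B) := by
  let Ah := AdicCompletion (maximalIdeal A) A
  let Bh := AdicCompletion (maximalIdeal B) B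
  have : IsNoetherianRing Ah := Cohen12.isNoetherianRing_completion (A := A)
  have : IsAdicComplete (maximalIdeal Ah) Ah := Cohen12.isAdicComplete_completion (A := A)
  have : IsNoetherianRing Bh := Cohen12.isNoetherianRing_completion (A := B)
  have : IsAdicComplete (maximalIdeal Bh) Bh := Cohen12.isAdicComplete_completion (A := B)
  have hmB : (maximalIdeal B).map (algebraMap B Bh) = maximalIdeal Bh :=
    (AdicCompletion.maximalIdeal_eq_map (R := B)).symm
  have hloc : (maximalIdeal A).map ((algebraMap B Bh).comp (algebraMap A B)) ≤ maximalIdeal Bh := by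
    rw [← Ideal.map_map, ← hmB]
    exact Ideal.map_mono (map_maximalIdeal_le _)
  obtain ⟨ψ, hψ⟩ := Cohen12.exists_extension (A := A) ((algebraMap B Bh).comp (algebraMap A B)) hloc
  have hc : ∃ c : ℕ, (maximalIdeal A ^ c).map (algebraMap A B) ≤ maximalIdeal B :=
    ⟨1, by rw [pow_one]; exact map_maximalIdeal_le _⟩
  have h2 := (CAlg5.isAdicFormallySmooth_iff_completion_map (maximalIdeal A) (maximalIdeal B)
    (IsNoetherian.noetherian _) (IsNoetherian.noetherian _) hc ψ (RingHom.ext hψ)).1 h
  letI : Algebra Ah Bh := ψ.toAlgebra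
  have : IsScalarTower A Ah Bh := .of_algebraMap_eq fun a => (hψ a).symm
  have : IsLocalHom (algebraMap Ah Bh) := by
    refine ((local_hom_TFAE (algebraMap Ah Bh)).out 0 2).mpr ?_
    rw [show maximalIdeal Ah = _ from AdicCompletion.maximalIdeal_eq_map (R := A), Ideal.map_map,
      ← IsScalarTower.algebraMap_eq]
    exact hloc
  rw [hmB] at h2
  have hreg : CAlg.IsRegularHom A Bh := CAlg5.isRegularHom_comp A Ah Bh hA (regular_of_adicFS_complete h2)
    fun p _ => CAlg1.isNoetherianRing_fiber (S := Bh) p
  have : Module.Flat B Bh := inferInstance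
  have : IsLocalHom (algebraMap B Bh) := ((local_hom_TFAE (algebraMap B Bh)).out 0 2).mpr hmB.le
  have : Module.FaithfullyFlat B Bh := Module.FaithfullyFlat.of_flat_of_isLocalHom
  exact ⟨CAlg5.isRegularHom_of_comp_of_faithfullyFlat A B Bh hreg, hreg⟩

/-- regular ⇔ formally smooth over complete rings -/
theorem regular_iff_adicFS {A B : Type u} [CommRing A] [IsLocalRing A] [IsNoetherianRing A]
    [IsAdicComplete (maximalIdeal A) A] [CommRing B] [IsLocalRing B] [IsNoetherianRing B]
    [IsAdicComplete (maximalIdeal B) B] [Algebra A B] [IsLocalHom (algebraMap A B)] :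
    CAlg.IsRegularHom A B ↔ CAlgX.IsAdicFormallySmooth A B (maximalIdeal B) :=
  ⟨fun h => CAlg1.flat_geometricallyRegular_iff_adicFS.mp ⟨h.1, (h.2 (maximalIdeal A)).2⟩,
    regular_of_adicFS_complete⟩

end Groth.Agent.CAlg1.Andre
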