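import Groth.Agent.CAlg1.Andre.Regular
import Groth.Agent.CAlg1.GRingBasic
import Groth.Agent.Henz21.ShBranch
import Mathlib

/-! Strict henselizations of G-rings are G-rings; the local criterion with regular formal fibres. -/

set_option autoImplicit false
set_option linter.style.haveILetI false
set_option maxHeartbeats 800000
universe u

open IsLocalRing TensorProduct

namespace Groth.Agent.CAlg1.Andre

theorem adicFS_of_separable_fibre {R S : Type u} [CommRing R] [IsLocalRing R] [IsNoetherianRing R]
    [CommRing S] [IsLocalRing S] [IsNoetherianRing S] [Algebra R S] [IsLocalHom (algebraMap R S)]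
    [Module.Flat R S] (hm : (maximalIdeal R).map (algebraMap R S) = maximalIdeal S)
    [Algebra.IsSeparable (ResidueField R) (ResidueField S)] :
    CAlgX.IsAdicFormallySmooth R S (maximalIdeal S) := by
  refine CAlg1.flat_geometricallyRegular_iff_adicFS.mp ⟨inferInstance, ?_⟩
  let m := maximalIdeal R
  let κ := m.ResidueField
  let Φ := m.Fiber S
  obtain ⟨e, he⟩ := exists_fiber_equiv_quotient R S
  let e2 : Φ ≃+* ResidueField S := e.trans (Ideal.quotEquivOfEq hm)
  have hF : IsField Φ := e2.toMulEquiv.isField (Field.toIsField _)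
  letI : Field Φ := hF.toField
  let e1 : ResidueField R ≃+* κ := RingEquiv.ofBijective _ (Ideal.bijective_algebraMap_quotient_residueField m)
  have : Algebra.IsSeparable κ Φ := by
    refine Algebra.IsSeparable.of_equiv_equiv e1 e2.symm ?_
    refine RingHom.ext fun x => ?_
    obtain ⟨r, rfl⟩ := residue_surjective x
    show algebraMap κ Φ (algebraMap R κ r) = e2.symm (algebraMap (ResidueField R) (ResidueField S) (residue R r))
    rw [RingEquiv.eq_symm_apply, ← IsScalarTower.algebraMap_apply]
    show (Ideal.quotEquivOfEq hm) (e (algebraMap R Φ r)) = residue S (algebraMap R S r)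
    rw [show algebraMap R Φ r = (1 : κ) ⊗ₜ[R] algebraMap R S r from
      ((Algebra.TensorProduct.includeRight : S →ₐ[R] Φ).commutes r).symm, he]
    rfl
  have := Algebra.FormallyEtale.of_isSeparable κ Φ
  have : Algebra.FormallySmooth κ Φ := inferInstance
  refine (EGA4Alg4.GeomFS13.isAdicFormallySmooth_iff_isGeometricallyRegular (k := κ) (A := Φ)).1 ?_
  intro C _ _ J hJ ψ _
  exact ⟨Algebra.FormallySmooth.lift J ⟨2, hJ⟩ ψ, Algebra.FormallySmooth.comp_lift J ⟨2, hJ⟩ ψ⟩

theorem isGRing_strictHenselization {R S : Type u} [CommRing R] [IsLocalRing R] [IsNoetherianRing R]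
    (hR : CAlg.IsGRing R) [CommRing S] [IsLocalRing S] [Algebra R S] [IsLocalHom (algebraMap R S)]
    [Hensel.IsStrictHenselization R S] : CAlg.IsGRing S := by
  have : IsNoetherianRing S := Henz21.isNoetherianRing_strictHenselization R S
  have : Module.FaithfullyFlat R S := Henz21.strictHenselization_faithfullyFlat (R := R) S
  have := Hensel.IsStrictHenselization.isSepClosure (R := R) (S := S)
  have : Algebra.IsSeparable (ResidueField R) (ResidueField S) := IsSepClosure.separable
  have hFS := adicFS_of_separable_fibre (Henz21.strictHenselization_map_maximalIdeal (R := R) S)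
  have hF : Hensel20.HasSeparableFibres R S := fun p _ =>
    Hensel20.exists_fields_fibre p (Henz21.strictHenselizationEquiv (R := R) S)
  have : IsNoetherianRing (AdicCompletion (maximalIdeal S) S) := Cohen12.isNoetherianRing_completion (A := S)
  refine GR.isGRing_of_local ?_
  exact Hensel20.isRegularHom_top_of_base _ hF (regular_of_adicFS (GR.regular_of_isGRing_local hR) hFS).2

/-- flat local maps whose completed closed fibre is geometrically regular -/
theorem regular_of_cpl_closed_fibre (A B : Type u) [CommRing A] [CommRing B] [IsNoetherianRing A]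
    [IsNoetherianRing B] [IsLocalRing A] [IsLocalRing B] [Algebra A B] [IsLocalHom (algebraMap A B)]
    [Module.Flat A B] (hA : CAlg.IsRegularHom A (EGA4.Cpl A))
    (h : CAlg.IsGeometricallyRegular (maximalIdeal A).ResidueField
      ((maximalIdeal A).Fiber (EGA4.Cpl B))) : CAlg.IsRegularHom A B := by
  let Bh := EGA4.Cpl B
  have : IsNoetherianRing Bh := Cohen12.isNoetherianRing_completion (A := B)
  have hmB : (maximalIdeal B).map (algebraMap B Bh) = maximalIdeal Bh :=
    (AdicCompletion.maximalIdeal_eq_map (R := B)).symm
  have : IsLocalHom (algebraMap A Bh) := by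
    refine ((local_hom_TFAE (algebraMap A Bh)).out 0 2).mpr ?_
    rw [IsScalarTower.algebraMap_eq A B Bh, ← Ideal.map_map, ← hmB]
    exact Ideal.map_mono (map_maximalIdeal_le _)
  have : Module.Flat B Bh := inferInstanceAs (Module.Flat B (AdicCompletion (maximalIdeal B) B))
  have : Module.Flat A Bh := Module.Flat.trans A B Bh
  have hreg := (regular_of_adicFS hA (CAlg1.flat_geometricallyRegular_iff_adicFS.mp ⟨inferInstance, h⟩)).1
  have : IsLocalHom (algebraMap B Bh) := ((local_hom_TFAE (algebraMap B Bh)).out 0 2).mpr hmB.le
  have : Module.FaithfullyFlat B Bh := Module.FaithfullyFlat.of_flat_of_isLocalHom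
  exact CAlg5.isRegularHom_of_comp_of_faithfullyFlat A B Bh hreg

end Groth.Agent.CAlg1.Andre
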